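import Groth.Prelude.Def_K0Var
import Mathlib

/-!
# Classes of Zariski locally trivial fibrations
-/

set_option autoImplicit false
set_option backward.isDefEq.respectTransparency false

universe u

open CategoryTheory CategoryTheory.Limits AlgebraicGeometry TopologicalSpace

noncomputable section

namespace Groth.Misc10.RelQuot

/-- Over a locally Noetherian base a scheme is the sum of an open piece and its reduced complement. -/
theorem exists_scissor_of_open {S X : Scheme.{u}} [IsLocallyNoetherian X] [CompactSpace X] (V : X.Opens) :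
    ∃ (Z : Scheme.{u}) (i : Z ⟶ X) (_ : IsClosedImmersion i), Set.range i = (Set.range V.ι)ᶜ := by
  let C : Closeds X := ⟨(V : Set X)ᶜ, V.isOpen.isClosed_compl⟩
  refine ⟨_, (Scheme.IdealSheafData.vanishingIdeal C).subschemeι, inferInstance, ?_⟩
  rw [Scheme.IdealSheafData.range_subschemeι, Scheme.IdealSheafData.coe_support_vanishingIdeal,
    Scheme.Opens.range_ι]
  rfl

variable {S X Y F : Scheme.{u}} (pY : Y ⟶ S) (pF : F ⟶ S) (f : X ⟶ Y)

/-- Over a trivialising open a pullback of the fibration is a product. -/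
theorem exists_iso_of_factor (U : Y.Opens) (e : (f ⁻¹ᵁ U).toScheme ≅ pullback (U.ι ≫ pY) pF)
    (he : e.hom ≫ pullback.fst (U.ι ≫ pY) pF = f ∣_ U) {V : Scheme.{u}} (h : V ⟶ Y)
    (h' : V ⟶ U.toScheme) (hh : h' ≫ U.ι = h) :
    ∃ i : pullback h f ≅ pullback (h ≫ pY) pF, i.hom ≫ pullback.fst (h ≫ pY) pF = pullback.fst h f := by
  let a : pullback (h ≫ pY) pF ⟶ pullback (U.ι ≫ pY) pF :=
    pullback.lift (pullback.fst _ _ ≫ h') (pullback.snd _ _) (by
      rw [Category.assoc, reassoc_of% hh]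
      exact pullback.condition)
  have s₁ : IsPullback a (pullback.fst (h ≫ pY) pF) (pullback.fst (U.ι ≫ pY) pF) h' := by
    refine IsPullback.of_right (h₁₂ := pullback.snd (U.ι ≫ pY) pF) (v₁₃ := pF) (h₂₂ := U.ι ≫ pY) ?_ ?_
      ((IsPullback.of_hasPullback (U.ι ≫ pY) pF).flip)
    · rw [pullback.lift_snd, ← Category.assoc, hh]
      exact (IsPullback.of_hasPullback (h ≫ pY) pF).flip
    · exact pullback.lift_fst _ _ _
  have s₂ : IsPullback (a ≫ e.inv) (pullback.fst (h ≫ pY) pF) (f ∣_ U) h' :=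
    s₁.of_iso (Iso.refl _) e.symm (Iso.refl _) (Iso.refl _) (by simp) (by simp)
      (by simp [← he]) (by simp)
  have s₃ := s₂.paste_horiz (isPullback_morphismRestrict f U).flip
  rw [hh] at s₃
  exact ⟨s₃.flip.isoPullback.symm, s₃.flip.isoPullback_inv_fst⟩

variable [IsLocallyNoetherian S] [LocallyOfFiniteType pY] [QuasiCompact pY] [LocallyOfFiniteType pF]
  [QuasiCompact pF] [LocallyOfFiniteType f] [QuasiCompact f] [CompactSpace S]

/-- Multiplicativity over a finite trivialising family. -/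
theorem cl_pullback_of_trivial
    (hf : ∀ y : Y, ∃ (U : Y.Opens) (e : (f ⁻¹ᵁ U).toScheme ≅ pullback (U.ι ≫ pY) pF),
      y ∈ U ∧ e.hom ≫ pullback.fst (U.ι ≫ pY) pF = f ∣_ U) (s : Finset Y) :
    ∀ {Y' : Scheme.{u}} (g : Y' ⟶ Y) [LocallyOfFiniteType g] [QuasiCompact g],
      (∀ z, ∃ y ∈ s, g z ∈ (hf y).choose) →
      K0Var.cl (pullback.fst g f ≫ g ≫ pY) = K0Var.cl (g ≫ pY) * K0Var.cl pF := by
  classical
  induction s using Finset.induction_on with
  | empty =>
    intro Y' g _ _ hz
    have : IsEmpty Y' := ⟨fun z => by simpa using hz z⟩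
    have : IsEmpty (pullback g f : Scheme.{u}) := ⟨fun t => IsEmpty.false (pullback.fst g f t)⟩
    rw [K0Var.cl_eq_gen_cl, K0Var.cl_eq_gen_cl,
      K0Var.Gen.cl_eq_zero_of_isEmpty (K0Var.Gen.mk Y' (g ≫ pY)),
      K0Var.Gen.cl_eq_zero_of_isEmpty (K0Var.Gen.mk (pullback g f) _), zero_mul]
  | @insert y s _ ih =>
    intro Y' g _ _ hz
    obtain ⟨e, hyU, he⟩ := (hf y).choose_spec
    let U := (hf y).choose
    let V : Y'.Opens := g ⁻¹ᵁ U
    have : IsLocallyNoetherian Y' := LocallyOfFiniteType.isLocallyNoetherian (g ≫ pY)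
    have : CompactSpace Y' := QuasiCompact.compactSpace_of_compactSpace (g ≫ pY)
    have : IsNoetherian Y' := {}
    obtain ⟨Z, i, hi, hrange⟩ := exists_scissor_of_open (S := S) V
    have hr' : Set.range i = (Set.range V.ι)ᶜ := hrange
    let iX := pullback.fst (pullback.fst g f) i
    let jX := pullback.fst (pullback.fst g f) V.ι
    have hXr : Set.range iX = (Set.range jX)ᶜ := by
      rw [Scheme.Pullback.range_fst, Scheme.Pullback.range_fst, hr', Set.preimage_compl]
    rw [K0Var.cl_scissor (pullback.fst g f ≫ g ≫ pY) iX jX hXr,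
      K0Var.cl_scissor (g ≫ pY) i V.ι hr', add_mul]
    have step : ∀ {W : Scheme.{u}} (w : W ⟶ Y') [LocallyOfFiniteType w] [QuasiCompact w],
        K0Var.cl (pullback.fst (w ≫ g) f ≫ (w ≫ g) ≫ pY) =
          K0Var.cl (pullback.fst (pullback.fst g f) w ≫ pullback.fst g f ≫ g ≫ pY) := fun {W} w => by
      refine K0Var.cl_congr _ _
        ((pullbackRightPullbackFstIso g f w).symm ≪≫ pullbackSymmetry _ _) ?_
      simp only [Iso.trans_hom, Iso.symm_hom, Category.assoc]
      rw [pullbackSymmetry_hom_comp_fst_assoc, ← pullback.condition_assoc,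
        pullbackRightPullbackFstIso_inv_fst_assoc]
    congr 1
    · rw [← step i]
      have h := ih (i ≫ g) fun z => by
        obtain ⟨y', hy', hzy⟩ := hz (i z)
        rcases Finset.mem_insert.1 hy' with rfl | hy'
        · have : i z ∈ (Set.range V.ι)ᶜ := hr' ▸ Set.mem_range_self z
          rw [Scheme.Opens.range_ι] at this
          exact absurd hzy this
        · exact ⟨y', hy', hzy⟩
      rw [h]
      rfl
    · rw [← step V.ι]
      obtain ⟨iso, hiso⟩ := exists_iso_of_factor pY pF f U e he (V.ι ≫ g)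
        (IsOpenImmersion.lift U.ι (V.ι ≫ g) (by
          rintro _ ⟨v, rfl⟩
          rw [Scheme.Opens.range_ι]
          exact v.2)) (IsOpenImmersion.lift_fac _ _ _)
      rw [show K0Var.cl (V.ι ≫ g ≫ pY) = K0Var.cl ((V.ι ≫ g) ≫ pY) from
          K0Var.cl_congr _ _ (Iso.refl _) (by simp),
        ← K0Var.cl_mul ((V.ι ≫ g) ≫ pY) pF]
      refine K0Var.cl_congr _ _ iso ?_
      rw [← Category.assoc, hiso]

end Groth.Misc10.RelQuot
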